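/-
Similarities of a unitary form inside the special linear group, in matrix language.
-/
import Cfsg.Agent.Lib.OrthSLElusive.Basic
import Cfsg.Agent.Lib.UnitaryBasic
import Cfsg.Agent.Lib.PSLn.Descent

set_option autoImplicit false
set_option linter.unusedSectionVars false

namespace CfsgLib.UnitSLElusive

open Matrix

universe u

variable {F : Type u} [Field F] [Fintype F] {n : ℕ}

local notation "Mn" => Matrix (Fin n) (Fin n) F

/-- The conjugate transpose. -/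
def st (σ : F →+* F) (M : Matrix (Fin n) (Fin n) F) : Matrix (Fin n) (Fin n) F := (M.map σ)ᵀ

theorem st_mul (σ : F →+* F) (A B : Mn) : st σ (A * B) = st σ B * st σ A := by
  simp [st, Matrix.map_mul, transpose_mul]

theorem st_st {σ : F →+* F} (h : ∀ a, σ (σ a) = a) (A : Mn) : st σ (st σ A) = A := by
  ext i j; simp [st, h]

theorem st_one (σ : F →+* F) : st σ (1 : Mn) = 1 := by simp [st]

theorem st_smul (σ : F →+* F) (c : F) (A : Mn) : st σ (c • A) = σ c • st σ A := by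
  ext i j; simp [st]

theorem st_det (σ : F →+* F) (A : Mn) : (st σ A).det = σ A.det := by
  rw [st, det_transpose, RingHom.map_det]; rfl

/-- A similarity of a sesquilinear form given by its matrix. -/
def Sim (σ : F →+* F) (G M : Matrix (Fin n) (Fin n) F) : Prop := ∃ c : F, st σ M * G * M = c • G

theorem sim_pow {σ : F →+* F} {G M : Mn} {c : F} (h : st σ M * G * M = c • G) (k : ℕ) :
    st σ (M ^ k) * G * M ^ k = c ^ k • G := by
  induction k with
  | zero => simp [st_one]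
  | succ k ih =>
    rw [pow_succ, st_mul, show st σ M * st σ (M ^ k) * G * (M ^ k * M) = st σ M * (st σ (M ^ k) * G * M ^ k) * M by
      simp only [Matrix.mul_assoc], ih, Matrix.mul_smul, Matrix.smul_mul, h, smul_smul, ← pow_succ]

theorem multiplier_eq {σ : F →+* F} {G M : Mn} (hG : G.det ≠ 0) (hn : 0 < n) {c : F} (h : st σ M * G * M = c • G) {k : ℕ}
    (hM : M ^ k = 1) : c ^ k = 1 := by
  have h1 := sim_pow h k
  rw [hM, st_one, one_mul, mul_one] at h1
  refine (smul_left_injective F (fun h0 => hG ?_) ((one_smul F G).trans h1)).symm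
  have : Nonempty (Fin n) := ⟨⟨0, hn⟩⟩
  rw [h0, det_zero]

/-- The field automorphism and the matrix of a unitary form. -/
theorem exists_data {q₀ : ℕ} {p : ℕ} [Fact p.Prime] [CharP F p] (hF : Fintype.card F = q₀ ^ 2)
    {f : (Fin n → F) → (Fin n → F) → F} (hf : Cfsg.Geo.IsUnitaryFormPow q₀ f) :
    ∃ (σ : F →+* F) (H : Mn), (∀ a, σ a = a ^ q₀) ∧ (∀ a, σ (σ a) = a) ∧ (∃ k, q₀ = p ^ k) ∧ st σ H = H ∧ H.det ≠ 0 ∧
      ∀ u v, f u v = (σ ∘ v) ⬝ᵥ (H *ᵥ u) := by
  classical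
  obtain ⟨d, hp, hd⟩ := FiniteField.card F p
  obtain ⟨k, -, hk⟩ := (Nat.dvd_prime_pow hp).mp (show q₀ ∣ p ^ (d : ℕ) from ⟨q₀, by rw [← hd, hF, sq]⟩)
  let σ : F →+* F := iterateFrobenius F p k
  have hσ : ∀ a, σ a = a ^ q₀ := fun a => by rw [hk]; exact iterateFrobenius_def p k a
  have hσσ : ∀ a, σ (σ a) = a := fun a => by rw [hσ, hσ, ← pow_mul, ← sq, ← hF, FiniteField.pow_card]
  have herm : ∀ v w, f v w = σ (f w v) := fun v w => by rw [hσ]; exact hf.herm v w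
  have hexp : ∀ u v, f u v = ∑ j, u j * f (Pi.single j 1) v := fun u v => by
    let L : (Fin n → F) →+ F := AddMonoidHom.mk' (fun x => f x v) fun a b => hf.add_left a b v
    have h := map_sum L (fun j => u j • (Pi.single j (1 : F) : Fin n → F)) Finset.univ
    rw [← pi_eq_sum_univ' u] at h
    exact h.trans (Finset.sum_congr rfl fun j _ => hf.smul_left _ _ v)
  refine ⟨σ, Matrix.of fun i j => f (Pi.single j 1) (Pi.single i 1), hσ, hσσ, ⟨k, hk⟩, ?_, ?_, ?_⟩
  · ext i j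
    simp only [st, transpose_apply, map_apply, of_apply]
    exact (herm _ _).symm
  · intro h0
    obtain ⟨u, hu, hHu⟩ := Matrix.exists_mulVec_eq_zero_iff.mpr h0
    obtain ⟨⟨z, hz⟩, -⟩ := hf.nondegenerate u hu
    refine hz ?_
    rw [hexp]
    refine Finset.sum_eq_zero fun i _ => ?_
    have h1 := congrFun hHu i
    simp only [mulVec, dotProduct, of_apply, Pi.zero_apply] at h1
    rw [herm, hexp, show ∑ j, u j * f (Pi.single j 1) (Pi.single i 1) = 0 by
      rw [← h1]; exact Finset.sum_congr rfl fun j _ => mul_comm _ _, map_zero, mul_zero]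
  · intro u v
    rw [hexp]
    simp only [dotProduct, mulVec, of_apply, Function.comp, Finset.mul_sum]
    rw [Finset.sum_comm]
    refine Finset.sum_congr rfl fun j _ => ?_
    rw [herm (Pi.single j 1) v, hexp v, map_sum, Finset.mul_sum]
    refine Finset.sum_congr rfl fun i _ => ?_
    rw [map_mul, ← herm]
    ring

/-- Membership in the similarity group. -/
theorem mem_iff {σ : F →+* F} {f : (Fin n → F) → (Fin n → F) → F} {H : Mn}
    (hf : ∀ u v, f u v = (σ ∘ v) ⬝ᵥ (H *ᵥ u)) (g : GL (Fin n) F) :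
    g ∈ Cfsg.Geo.similarityGroup f ↔ ∃ c : Fˣ, st σ (g : Mn) * H * (g : Mn) = (c : F) • H := by
  have key : ∀ u v, f ((g : Mn) *ᵥ u) ((g : Mn) *ᵥ v) = (σ ∘ v) ⬝ᵥ ((st σ (g : Mn) * H * (g : Mn)) *ᵥ u) := fun u v => by
    rw [hf, show σ ∘ ((g : Mn) *ᵥ v) = (g : Mn).map σ *ᵥ (σ ∘ v) from funext fun i => RingHom.map_mulVec σ _ _ i,
      ← mulVec_mulVec, ← mulVec_mulVec, dotProduct_mulVec (σ ∘ v) (st σ (g : Mn)), st, vecMul_transpose]
  refine exists_congr fun c => ⟨fun h => ?_, fun h u v => ?_⟩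
  · refine Matrix.ext fun i j => ?_
    have h1 := h (Pi.single j 1) (Pi.single i 1)
    rw [key, hf, show σ ∘ Pi.single i (1 : F) = Pi.single i 1 from funext fun x => by
      simp [Pi.single_apply, apply_ite σ], mulVec_single_one, mulVec_single_one, single_one_dotProduct,
      single_one_dotProduct] at h1
    exact h1
  · rw [key, h, hf, smul_mulVec, dotProduct_smul, smul_eq_mul]

/-- An element without conjugates among the similarities. -/
def SLBad (f : (Fin n → F) → (Fin n → F) → F) (r : ℕ) : Prop :=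
  ∃ x ∈ Cfsg.Geo.specialLinear (Fin n) F, (∃ z : F, ((x ^ r : GL (Fin n) F) : Mn) = z • 1) ∧
    (∀ z : F, (x : Mn) ≠ z • 1) ∧ ∀ g ∈ Cfsg.Geo.specialLinear (Fin n) F, g⁻¹ * x * g ∉ Cfsg.Geo.similarityGroup f

/-- A matrix that is a similarity of no Hermitian form gives a bad element. -/
theorem bad_of {σ : F →+* F} (hσσ : ∀ a, σ (σ a) = a) {f : (Fin n → F) → (Fin n → F) → F} {H : Mn}
    (hH : st σ H = H) (hH0 : H.det ≠ 0) (hf : ∀ u v, f u v = (σ ∘ v) ⬝ᵥ (H *ᵥ u)) {r : ℕ} (M : Mn)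
    (hdet : M.det = 1) {z : F} (hpow : M ^ r = z • 1)
    (hkey : ∀ G : Mn, st σ G = G → G.det ≠ 0 → ¬ Sim σ G M) : SLBad f r := by
  let x : GL (Fin n) F := Matrix.GeneralLinearGroup.mkOfDetNeZero M (by rw [hdet]; exact one_ne_zero)
  refine ⟨x, (CfsgLib.OrthSLElusive.mem_special_iff x).mpr hdet,
    ⟨z, by rw [Units.val_pow_eq_pow_val]; exact hpow⟩, fun w hw => ?_, fun g _ hmem => ?_⟩
  · refine hkey H hH hH0 ⟨σ w * w, ?_⟩
    rw [show M = w • 1 from hw, st_smul, st_one]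
    simp [smul_smul, mul_comm]
  obtain ⟨c, hc⟩ := (mem_iff hf _).mp hmem
  set h := g⁻¹
  set Hm := (h : Mn)
  have hHm : Hm.det ≠ 0 := ((Matrix.isUnit_iff_isUnit_det _).mp h.isUnit).ne_zero
  have hgh : (g : Mn) * Hm = 1 := Units.mul_inv g
  refine hkey (st σ Hm * H * Hm) ?_ ?_ ⟨c, ?_⟩
  · rw [st_mul, st_mul, st_st hσσ, hH, Matrix.mul_assoc]
  · rw [det_mul, det_mul, st_det]
    exact mul_ne_zero (mul_ne_zero ((map_ne_zero σ).mpr hHm) hH0) hHm
  · change st σ (Hm * M * (g : Mn)) * H * (Hm * M * (g : Mn)) = (c : F) • H at hc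
    have h1 : Hm * M = Hm * M * (g : Mn) * Hm := by rw [mul_assoc _ (g : Mn), hgh, mul_one]
    calc st σ M * (st σ Hm * H * Hm) * M = st σ (Hm * M) * H * (Hm * M) := by simp only [st_mul, Matrix.mul_assoc]
      _ = st σ Hm * (st σ (Hm * M * (g : Mn)) * H * (Hm * M * (g : Mn))) * Hm := by
          conv_lhs => rw [h1, st_mul]
          simp only [Matrix.mul_assoc]
      _ = (c : F) • (st σ Hm * H * Hm) := by rw [hc, Matrix.mul_smul, Matrix.smul_mul]

/-- Hermitian matrices are congruent. -/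
theorem exists_congr_herm {σ : F →+* F} (hσσ : ∀ a, σ (σ a) = a) (hne : ∃ a, σ a ≠ a) {G G' : Mn} (hG : st σ G = G)
    (hG0 : G.det ≠ 0) (hG' : st σ G' = G') (hG'0 : G'.det ≠ 0) :
    ∃ P : Mn, P.det ≠ 0 ∧ st σ P * G * P = G' := by
  let τ : RingAut F := RingEquiv.ofRingHom σ σ (RingHom.ext hσσ) (RingHom.ext hσσ)
  have hτ : orderOf τ = 2 := by
    have : Fact (Nat.Prime 2) := ⟨Nat.prime_two⟩
    obtain ⟨a, ha⟩ := hne
    refine orderOf_eq_prime ?_ fun e => ha (RingEquiv.congr_fun e a)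
    rw [pow_two]
    exact RingEquiv.ext hσσ
  have fac : ∀ A : Mn, st σ A = A → A.det ≠ 0 → ∃ k : Mn, k.det ≠ 0 ∧ A = k * st σ k := fun A hA hA0 => by
    obtain ⟨k, hk⟩ := CfsgLib.PSLn.exists_hermitian_factor τ hτ (Matrix.GeneralLinearGroup.mkOfDetNeZero A hA0)
      (by show Aᵀ.map σ = A; rw [transpose_map]; exact hA)
    exact ⟨k.1, ((Matrix.isUnit_iff_isUnit_det _).mp k.isUnit).ne_zero, hk⟩
  obtain ⟨k, hk0, hk⟩ := fac G hG hG0
  obtain ⟨l, hl0, hl⟩ := fac G' hG' hG'0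
  have hu : IsUnit (st σ k).det := isUnit_iff_ne_zero.mpr (by rw [st_det]; exact (map_ne_zero σ).mpr hk0)
  refine ⟨(st σ k)⁻¹ * st σ l, ?_, ?_⟩
  · rw [det_mul, Matrix.det_nonsing_inv, Ring.inverse_eq_inv', st_det, st_det]
    exact mul_ne_zero (inv_ne_zero ((map_ne_zero σ).mpr hk0)) ((map_ne_zero σ).mpr hl0)
  · have h2 : st σ ((st σ k)⁻¹) * k = 1 := by
      have := congrArg (st σ) (Matrix.mul_nonsing_inv (st σ k) hu)
      rwa [st_mul, st_st hσσ, st_one] at this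
    rw [st_mul, st_st hσσ, hk, hl]
    calc l * st σ ((st σ k)⁻¹) * (k * st σ k) * ((st σ k)⁻¹ * st σ l)
        = l * (st σ ((st σ k)⁻¹) * k) * (st σ k * (st σ k)⁻¹) * st σ l := by simp only [Matrix.mul_assoc]
      _ = l * st σ l := by rw [h2, Matrix.mul_nonsing_inv _ hu, mul_one, mul_one]

/-- Conjugation into the similarities inside the special linear group. -/
theorem conj_into {σ : F →+* F} (hσσ : ∀ a, σ (σ a) = a) (hne : ∃ a, σ a ≠ a) {f : (Fin n → F) → (Fin n → F) → F}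
    {H : Mn} (hH : st σ H = H) (hH0 : H.det ≠ 0) (hf : ∀ u v, f u v = (σ ∘ v) ⬝ᵥ (H *ᵥ u))
    {x : GL (Fin n) F} {g Y G' : Mn} (hg : g.det ≠ 0) (hxg : (x : Mn) * g = g * Y) {μ : F} (hμ : μ ≠ 0)
    (hG' : st σ G' = G') (hG'0 : G'.det ≠ 0) (hY : st σ Y * G' * Y = μ • G')
    (hcomm : ∀ t : F, t ≠ 0 → ∃ C : Mn, C.det = t ∧ C * Y = Y * C) :
    ∃ P ∈ Cfsg.Geo.specialLinear (Fin n) F, P⁻¹ * x * P ∈ Cfsg.Geo.similarityGroup f := by
  obtain ⟨P₀, hP₀, hPG⟩ := exists_congr_herm hσσ hne hH hH0 hG' hG'0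
  set Pi := P₀⁻¹
  have hPP : P₀ * Pi = 1 := Matrix.mul_nonsing_inv P₀ (isUnit_iff_ne_zero.mpr hP₀)
  have hPP' : Pi * P₀ = 1 := Matrix.nonsing_inv_mul P₀ (isUnit_iff_ne_zero.mpr hP₀)
  obtain ⟨C, hC, hCY⟩ := hcomm (P₀.det / g.det) (div_ne_zero hP₀ hg)
  set g' := g * C * Pi
  have hdet : g'.det = 1 := by
    rw [det_mul, det_mul, hC, show Pi.det = P₀.det⁻¹ by rw [Matrix.det_nonsing_inv, Ring.inverse_eq_inv']]
    field_simp
  let P : GL (Fin n) F := Matrix.GeneralLinearGroup.mkOfDetNeZero g' (by rw [hdet]; exact one_ne_zero)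
  refine ⟨P, (CfsgLib.OrthSLElusive.mem_special_iff P).mpr hdet, (mem_iff hf _).mpr ⟨Units.mk0 μ hμ, ?_⟩⟩
  have hxg' : (x : Mn) * g' = g' * (P₀ * Y * Pi) := by
    show (x : Mn) * (g * C * Pi) = g * C * Pi * (P₀ * Y * Pi)
    calc (x : Mn) * (g * C * Pi) = g * (Y * C) * Pi := by simp only [← mul_assoc, hxg]
      _ = g * (C * Y) * Pi := by rw [hCY]
      _ = g * C * (Pi * P₀) * Y * Pi := by rw [hPP', mul_one]; simp only [mul_assoc]
      _ = _ := by simp only [mul_assoc]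
  have hval : ((P⁻¹ * x * P : GL (Fin n) F) : Mn) = P₀ * Y * Pi := by
    rw [Units.val_mul, Units.val_mul, mul_assoc]
    show ((P⁻¹ : GL (Fin n) F) : Mn) * ((x : Mn) * g') = _
    rw [hxg', ← mul_assoc]
    exact (congrArg (· * (P₀ * Y * Pi)) (Units.inv_mul P)).trans (one_mul _)
  rw [hval, Units.val_mk0]
  calc st σ (P₀ * Y * Pi) * H * (P₀ * Y * Pi) = st σ Pi * (st σ Y * (st σ P₀ * H * P₀) * Y) * Pi := by
        simp only [st_mul, Matrix.mul_assoc]
    _ = μ • (st σ (P₀ * Pi) * H * (P₀ * Pi)) := by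
        rw [hPG, hY, ← hPG]
        simp only [st_mul, Matrix.mul_smul, Matrix.smul_mul, Matrix.mul_assoc]
    _ = μ • H := by rw [hPP, st_one, one_mul, mul_one]

end CfsgLib.UnitSLElusive
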