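/-
Elements of prime order without conjugates among the similarities of a unitary form.
-/
import Cfsg.Agent.Lib.UnitSLElusive.Basic
import Cfsg.Agent.Lib.OrthSLElusive.Negative
import Cfsg.Agent.Lib.UnitaryOrder

set_option autoImplicit false
set_option linter.unusedSectionVars false

namespace CfsgLib.UnitSLElusive

open Polynomial Matrix Module

universe u

variable {F : Type u} [Field F] [Fintype F] {n : ℕ} {p r : ℕ} [Fact p.Prime] [CharP F p] [Fact r.Prime]

local notation "Mn" => Matrix (Fin n) (Fin n) F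

theorem exists_moved {q₀ : ℕ} (hF : Fintype.card F = q₀ ^ 2) {σ : F →+* F} (hσ : ∀ a, σ a = a ^ q₀) : ∃ a, σ a ≠ a := by
  obtain ⟨g, hg⟩ := IsCyclic.exists_ofOrder_eq_natCard (α := Fˣ)
  rw [Nat.card_units, Nat.card_eq_fintype_card, hF] at hg
  have hq := (CfsgLib.UnitaryBasic.frob_exists hF).1
  refine ⟨g, fun he => ?_⟩
  rw [hσ, ← Units.val_pow_eq_pow_val, Units.val_inj] at he
  have h1 : g ^ (q₀ - 1) = 1 := mul_right_cancel (b := g) (by rw [← pow_succ, Nat.sub_add_cancel (by omega), he, one_mul])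
  have h2 := Nat.le_of_dvd (by omega) (hg ▸ orderOf_dvd_of_pow_eq_one h1)
  have h3 : q₀ < q₀ ^ 2 := by rw [sq]; nlinarith
  omega

/-- The unitary group of determinant one goes into the similarities. -/
theorem card_GU_dvd {q₀ : ℕ} (hF : Fintype.card F = q₀ ^ 2) {σ : F →+* F} (hσ : ∀ a, σ a = a ^ q₀)
    (hσσ : ∀ a, σ (σ a) = a) {f : (Fin n → F) → (Fin n → F) → F} {H : Mn}
    (hH : st σ H = H) (hH0 : H.det ≠ 0) (hf : ∀ u v, f u v = (σ ∘ v) ⬝ᵥ (H *ᵥ u)) :
    Nat.card (Cfsg.GU n F q₀) ∣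
      (q₀ + 1) * Nat.card ↥(Cfsg.Geo.similarityGroup f ⊓ Cfsg.Geo.specialLinear (Fin n) F) := by
  classical
  obtain ⟨P, hP0, hP⟩ := exists_congr_herm hσσ (exists_moved hF hσ) hH hH0 (st_one σ) (by rw [det_one]; exact one_ne_zero)
  let Pu : GL (Fin n) F := Matrix.GeneralLinearGroup.mkOfDetNeZero P hP0
  let φ : Cfsg.GU n F q₀ →* Fˣ := Matrix.GeneralLinearGroup.det.comp (Subgroup.subtype _)
  have hgu : ∀ g : GL (Fin n) F, g ∈ Cfsg.GU n F q₀ → st σ (g : Mn) * (g : Mn) = 1 := fun g hg => by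
    have e : g.1ᵀ * g.1.map σ = 1 := by
      ext a b
      have h := hg (Pi.single a 1) (Pi.single b 1)
      change Cfsg.hermForm n F q₀ (g.1 *ᵥ Pi.single a 1) (g.1 *ᵥ Pi.single b 1) = _ at h
      simp only [Cfsg.hermForm, Matrix.mulVec_single_one, Matrix.col_apply] at h
      simp only [Matrix.mul_apply, Matrix.transpose_apply, Matrix.map_apply, hσ, h]
      rw [Finset.sum_eq_single a]
      · have := hF ▸ Fintype.one_lt_card (α := F)
        have hq0 : q₀ ≠ 0 := fun h => by rw [h] at this; simp at this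
        by_cases hab : a = b
        · subst hab; simp
        · simp [hab, Matrix.one_apply_ne hab, zero_pow hq0]
      · intro c _ hc; simp [hc]
      · exact fun h => absurd (Finset.mem_univ a) h
    simpa [st, transpose_mul] using congrArg Matrix.transpose e
  have hmem : ∀ g : GL (Fin n) F, g ∈ Cfsg.GU n F q₀ → Pu * g * Pu⁻¹ ∈ Cfsg.Geo.similarityGroup f := fun g hg => by
    refine (mem_iff hf _).mpr ⟨1, ?_⟩
    rw [Units.val_one, one_smul, Units.val_mul, Units.val_mul, show (Pu : Mn) = P from rfl]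
    have hPi : P * ((Pu⁻¹ : GL (Fin n) F) : Mn) = 1 := Units.mul_inv Pu
    calc st σ (P * (g : Mn) * ((Pu⁻¹ : GL (Fin n) F) : Mn)) * H * (P * (g : Mn) * ((Pu⁻¹ : GL (Fin n) F) : Mn))
        = st σ ((Pu⁻¹ : GL (Fin n) F) : Mn) * (st σ (g : Mn) * (st σ P * H * P) * (g : Mn)) * ((Pu⁻¹ : GL (Fin n) F) : Mn) := by
          simp only [st_mul, Matrix.mul_assoc]
      _ = st σ ((Pu⁻¹ : GL (Fin n) F) : Mn) * (st σ P * H * P) * ((Pu⁻¹ : GL (Fin n) F) : Mn) := by
          rw [hP, mul_one, hgu g hg]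
      _ = st σ (P * ((Pu⁻¹ : GL (Fin n) F) : Mn)) * H * (P * ((Pu⁻¹ : GL (Fin n) F) : Mn)) := by
          simp only [st_mul, Matrix.mul_assoc]
      _ = H := by rw [hPi, st_one, one_mul, mul_one]
  have hker : Nat.card φ.ker ∣ Nat.card ↥(Cfsg.Geo.similarityGroup f ⊓ Cfsg.Geo.specialLinear (Fin n) F) := by
    refine Subgroup.card_dvd_of_injective
      (((MulAut.conj Pu).toMonoidHom.comp ((Cfsg.GU n F q₀).subtype.comp φ.ker.subtype)).codRestrict _
      fun g => ⟨hmem g.1.1 g.1.2, ?_⟩) ?_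
    · show Matrix.GeneralLinearGroup.det (Pu * g.1.1 * Pu⁻¹) = 1
      rw [map_mul, map_mul, map_inv, show Matrix.GeneralLinearGroup.det g.1.1 = 1 from g.2, mul_one, mul_inv_cancel]
    · intro a b h
      have h' := congrArg (fun y : ↥(Cfsg.Geo.similarityGroup f ⊓ Cfsg.Geo.specialLinear (Fin n) F) => y.1) h
      exact Subtype.ext (Subtype.ext ((MulAut.conj Pu).injective h'))
  have hrange : Nat.card φ.range ∣ q₀ + 1 := by
    refine (Subgroup.card_dvd_of_le (K := (powMonoidHom (q₀ + 1) : Fˣ →* Fˣ).ker) ?_).trans ?_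
    · rintro _ ⟨g, rfl⟩
      exact CfsgLib.UnitaryBasic.det_pow hF g.2
    · rw [IsCyclic.card_powMonoidHom_ker, Nat.gcd_comm]
      exact Nat.gcd_dvd_left _ _
  rw [← φ.ker.index_mul_card, Subgroup.index_ker]
  exact mul_dvd_mul hrange hker

include p in
/-- What a prime dividing the index tells about `-q₀`. -/
theorem order_facts {q₀ : ℕ} (hF : Fintype.card F = q₀ ^ 2) (hn : 1 ≤ n) {σ : F →+* F} (hσ : ∀ a, σ a = a ^ q₀)
    (hσσ : ∀ a, σ (σ a) = a) {f : (Fin n → F) → (Fin n → F) → F} {H : Mn}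
    (hH : st σ H = H) (hH0 : H.det ≠ 0) (hf : ∀ u v, f u v = (σ ∘ v) ⬝ᵥ (H *ᵥ u)) (hrp : r ≠ p)
    (hΩ : r ∣ (Cfsg.Geo.similarityGroup f).relIndex (Cfsg.Geo.specialLinear (Fin n) F)) :
    ∃ k, 1 ≤ k ∧ k ≤ n ∧ (-(q₀ : ZMod r)) ^ k = -1 := by
  classical
  have hr : r.Prime := Fact.out
  set q := Fintype.card F with hq
  set SL := Cfsg.Geo.specialLinear (Fin n) F
  set S := Cfsg.Geo.similarityGroup f
  have hq0 : 1 < q₀ := (CfsgLib.UnitaryBasic.frob_exists hF).1
  have hqr : ¬ r ∣ q := fun h => hrp ((CfsgLib.MaxSub.Elusive.dvd_q_iff (F := F) hr).mp h)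
  have hqr0 : ¬ r ∣ q₀ := fun h => hqr (hF ▸ dvd_pow h two_ne_zero)
  have hfq : ∀ k, (q ^ k).factorization r = 0 := fun k => by
    rw [Nat.factorization_pow, Finsupp.smul_apply, Nat.factorization_eq_zero_of_not_dvd hqr, smul_zero]
  have hne : ∀ k, 1 ≤ k → q₀ ^ k - 1 ≠ 0 := fun k hk => (Nat.sub_pos_of_lt (Nat.one_lt_pow (by omega) hq0)).ne'
  have hq1 : 1 < q := Fintype.one_lt_card
  have hne' : ∀ k, 1 ≤ k → q ^ k - 1 ≠ 0 := fun k hk => (Nat.sub_pos_of_lt (Nat.one_lt_pow (by omega) hq1)).ne'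
  have hsplit : ∀ k, 1 ≤ k → (q ^ k - 1).factorization r =
      (q₀ ^ k + 1).factorization r + (q₀ ^ k - 1).factorization r := fun k hk => by
    rw [hF, ← pow_mul, mul_comm 2 k, pow_mul, show (q₀ ^ k) ^ 2 - 1 = (q₀ ^ k + 1) * (q₀ ^ k - 1) by
      rw [← Nat.sq_sub_sq, one_pow], Nat.factorization_mul (by omega) (hne k hk), Finsupp.add_apply]
  have hGL : (Nat.card (GL (Fin n) F)).factorization r = ∑ k ∈ Finset.range n, (q ^ (k + 1) - 1).factorization r := by
    rw [Matrix.card_GL_field, Nat.factorization_prod_apply fun (j : Fin n) _ =>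
      (Nat.sub_pos_of_lt (Nat.pow_lt_pow_right hq1 j.2)).ne',
      Fin.sum_univ_eq_sum_range (fun j => (q ^ n - q ^ j).factorization r), ← Finset.sum_range_reflect]
    refine Finset.sum_congr rfl fun k hk => ?_
    have hkn := Finset.mem_range.mp hk
    rw [CfsgLib.MaxSub.Elusive.q_pow_factor (Nat.sub_le _ _ |>.trans (Nat.sub_le _ _)),
      Nat.factorization_mul (pow_ne_zero _ (by omega)) (hne' _ (by omega)),
      Finsupp.add_apply, hfq, zero_add, show n - (n - 1 - k) = k + 1 by omega]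
  have hSL : (q - 1) * Nat.card SL = Nat.card (GL (Fin n) F) := by
    have h := (Matrix.GeneralLinearGroup.det : GL (Fin n) F →* Fˣ).ker.index_mul_card
    rw [Subgroup.index_ker, MonoidHom.range_eq_top.mpr (CfsgLib.SLCard.det_surjective (by omega)), Subgroup.card_top,
      Nat.card_units, Nat.card_eq_fintype_card (α := F)] at h
    exact h
  have hidx : S.relIndex SL * Nat.card ↥(S ⊓ SL) = Nat.card SL := by
    rw [← Subgroup.inf_relIndex_right]
    have h1 := ((S ⊓ SL).subgroupOf SL).index_mul_card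
    rwa [Nat.card_congr (Subgroup.subgroupOfEquivOfLe inf_le_right).toEquiv] at h1
  have hH0' : Nat.card ↥(S ⊓ SL) ≠ 0 := Nat.card_pos.ne'
  have hI0 : S.relIndex SL ≠ 0 := left_ne_zero_of_mul (a := S.relIndex SL) (hidx ▸ Nat.card_pos.ne')
  have hv : (S.relIndex SL).factorization r + (Nat.card ↥(S ⊓ SL)).factorization r + (q - 1).factorization r =
      ∑ k ∈ Finset.range n, (q ^ (k + 1) - 1).factorization r := by
    rw [← hGL, ← hSL, Nat.factorization_mul (by omega) (by rw [← hidx]; exact mul_ne_zero hI0 hH0'), ← hidx,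
      Nat.factorization_mul hI0 hH0']
    simp only [Finsupp.add_apply]
    ring
  have hpos : 0 < (S.relIndex SL).factorization r := hr.factorization_pos_of_dvd hI0 hΩ
  have hle : ∑ j ∈ Finset.range n, (if Even j then (q₀ ^ (j + 1) + 1).factorization r else (q₀ ^ (j + 1) - 1).factorization r) ≤
      (q₀ + 1).factorization r + (Nat.card ↥(S ⊓ SL)).factorization r := by
    have h1 := (Nat.factorization_le_iff_dvd Nat.card_pos.ne' (mul_ne_zero (Nat.succ_ne_zero q₀) hH0')).mpr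
      (card_GU_dvd hF hσ hσσ hH hH0 hf) r
    rw [Nat.factorization_mul (Nat.succ_ne_zero q₀) hH0', Finsupp.add_apply, CfsgLib.UnitaryOrder.card_GU hF,
      Nat.factorization_mul (pow_ne_zero _ (by omega)) (Finset.prod_ne_zero_iff.mpr fun j _ => by
        split_ifs
        · omega
        · exact hne _ (by omega)),
      Finsupp.add_apply, Nat.factorization_pow, Finsupp.smul_apply, Nat.factorization_eq_zero_of_not_dvd hqr0,
      smul_zero, zero_add, Nat.factorization_prod_apply fun j _ => by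
        split_ifs
        · omega
        · exact hne _ (by omega)] at h1
    refine le_trans (le_of_eq (Finset.sum_congr rfl fun j _ => ?_)) h1
    split_ifs <;> rfl
  rw [Finset.sum_congr rfl fun j _ => hsplit (j + 1) (by omega)] at hv
  have hkey : (S.relIndex SL).factorization r + (q - 1).factorization r ≤ (q₀ + 1).factorization r +
      ∑ j ∈ Finset.range n, (if Even j then (q₀ ^ (j + 1) - 1).factorization r else (q₀ ^ (j + 1) + 1).factorization r) := by
    have h2 : ∑ j ∈ Finset.range n, ((q₀ ^ (j + 1) + 1).factorization r + (q₀ ^ (j + 1) - 1).factorization r) =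
        ∑ j ∈ Finset.range n, (if Even j then (q₀ ^ (j + 1) + 1).factorization r else (q₀ ^ (j + 1) - 1).factorization r) +
        ∑ j ∈ Finset.range n, (if Even j then (q₀ ^ (j + 1) - 1).factorization r else (q₀ ^ (j + 1) + 1).factorization r) := by
      rw [← Finset.sum_add_distrib]
      exact Finset.sum_congr rfl fun j _ => by split_ifs <;> omega
    omega
  obtain ⟨n', rfl⟩ : ∃ n', n = n' + 1 := ⟨n - 1, by omega⟩
  have h1 := hsplit 1 le_rfl
  rw [pow_one, pow_one] at h1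
  rw [Finset.sum_range_succ', if_pos Even.zero, zero_add, pow_one] at hkey
  obtain ⟨j, hj, hjne⟩ := Finset.exists_ne_zero_of_sum_ne_zero (show ∑ j ∈ Finset.range n',
      (if Even (j + 1) then (q₀ ^ (j + 1 + 1) - 1).factorization r else (q₀ ^ (j + 1 + 1) + 1).factorization r) ≠ 0 by omega)
  refine ⟨j + 1 + 1, by omega, by have := Finset.mem_range.mp hj; omega, ?_⟩
  split_ifs at hjne with he
  · have h2 := (ZMod.natCast_eq_zero_iff _ r).mpr (Nat.dvd_of_factorization_pos hjne)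
    rw [Nat.cast_sub (Nat.one_le_pow _ _ (by omega)), sub_eq_zero, Nat.cast_pow, Nat.cast_one] at h2
    rw [(Even.add_one he).neg_pow, h2]
  · have h2 := (ZMod.natCast_eq_zero_iff _ r).mpr (Nat.dvd_of_factorization_pos hjne)
    rw [Nat.cast_add, Nat.cast_pow, Nat.cast_one] at h2
    rw [(Nat.not_even_iff_odd.mp he).add_one.neg_pow]
    exact eq_neg_of_add_eq_zero_left h2

theorem aeval_transpose (N : Mn) (P : F[X]) : aeval Nᵀ P = (aeval N P)ᵀ := by
  simp [aeval_eq_sum_range, transpose_sum, transpose_smul, transpose_pow]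

theorem aeval_semiconj {K A B : Mn} (h : K * A = B * K) (P : F[X]) : K * aeval A P = aeval B P * K := by
  simp only [aeval_eq_sum_range, Finset.mul_sum, Finset.sum_mul, Matrix.mul_smul, Matrix.smul_mul]
  refine Finset.sum_congr rfl fun k _ => ?_
  rw [SemiconjBy.pow_right (show SemiconjBy K A B from h) k]

/-- A single block. -/
theorem bad_block {q₀ : ℕ} (hF : Fintype.card F = q₀ ^ 2) {σ : F →+* F} (hσ : ∀ a, σ a = a ^ q₀)
    (hσσ : ∀ a, σ (σ a) = a) {f : (Fin n → F) → (Fin n → F) → F} {H : Mn}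
    (hH : st σ H = H) (hH0 : H.det ≠ 0) (hf : ∀ u v, f u v = (σ ∘ v) ⬝ᵥ (H *ᵥ u)) (hr2 : r ≠ 2) (hrp : r ≠ p)
    {k : ℕ} (hk : (-(q₀ : ZMod r)) ^ k = -1) (hi : 2 ≤ orderOf (Fintype.card F : ZMod r))
    (hin : orderOf (Fintype.card F : ZMod r) ≤ n) : SLBad f r := by
  classical
  have hrP : r.Prime := Fact.out
  set q := Fintype.card F with hq
  set i := orderOf (q : ZMod r) with hidef
  obtain ⟨x, hx1, hx2, ⟨P0, hP0, hdeg, hann⟩, -⟩ :=
    CfsgLib.MaxSub.Elusive.exists_blocks_element (F := F) (p := p) (n := n) (s := 1) hrP hrp hi le_rfl (by rw [one_mul]; exact hin)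
  rw [Matrix.SpecialLinearGroup.coe_pow] at hx1
  set M : Mn := (x : Mn) with hM
  have hpow : M ^ r = 1 := by rw [hx1, one_smul]
  have hann' : aeval M P0 = 0 := Matrix.toLinAlgEquiv'.injective (by
    rw [map_zero, ← hann]; exact (Polynomial.aeval_algHom_apply Matrix.toLinAlgEquiv'.toAlgHom M P0).symm)
  refine bad_of hσσ hH hH0 hf M x.2 (z := 1) hx1 fun G hG hG0 => ?_
  rintro ⟨c, hc⟩
  have hq1 : ¬ r ∣ q - 1 := fun hd => by
    have h3 : (q : ZMod r) = 1 := by
      have := (ZMod.natCast_eq_zero_iff _ _).mpr hd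
      rwa [Nat.cast_sub Fintype.card_pos, Nat.cast_one, sub_eq_zero] at this
    rw [hidef, h3, orderOf_one] at hi
    omega
  rw [CfsgLib.MaxSub.Elusive.root_unity_one hrP hq1 (multiplier_eq hG0 (by omega) hc hpow), one_smul] at hc
  set N := M ^ (r - 1) with hN
  have hMN : M * N = 1 := by rw [hN, ← pow_succ', Nat.sub_add_cancel hrP.one_le, hpow]
  have hrel : Gᵀ * M.map σ = Nᵀ * Gᵀ := by
    have h1 : st σ M * G = G * N := by
      conv_rhs => rw [← hc]
      rw [Matrix.mul_assoc (st σ M * G), hMN, mul_one]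
    have h2 := congrArg Matrix.transpose h1
    rwa [transpose_mul, transpose_mul, st, transpose_transpose] at h2
  have : Nontrivial Mn := ⟨⟨M, 1, fun h => hx2 1 (h.trans (one_smul F 1).symm)⟩⟩
  set P := minpoly F M with hP
  have hMint : IsIntegral F M := Algebra.IsIntegral.isIntegral M
  have hσP : aeval (M.map σ) (P.map σ) = 0 := by
    have h1 := Polynomial.hom_eval₂ P (algebraMap F Mn) σ.mapMatrix M
    rw [show eval₂ (algebraMap F Mn) M P = 0 from minpoly.aeval F M, map_zero] at h1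
    rw [aeval_def, eval₂_map]
    refine Eq.trans ?_ h1.symm
    congr 1
    ext a i j
    simp [Matrix.algebraMap_matrix_apply, apply_ite σ]
  have hN0 : aeval N (P.map σ) = 0 := by
    have h1 := aeval_semiconj hrel (P.map σ)
    rw [hσP, mul_zero] at h1
    have h2 : aeval Nᵀ (P.map σ) = 0 := by
      have hu : IsUnit (Gᵀ).det := isUnit_iff_ne_zero.mpr (by rwa [det_transpose])
      rw [← mul_one (aeval Nᵀ (P.map σ)), ← Matrix.mul_nonsing_inv Gᵀ hu, ← mul_assoc, ← h1, zero_mul]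
    rwa [aeval_transpose, transpose_eq_zero] at h2
  have hdvd : P ∣ (P.map σ).comp (X ^ (r - 1)) := minpoly.dvd F M (by rw [aeval_comp, map_pow, aeval_X]; exact hN0)
  -- roots in an algebraic closure
  let L := AlgebraicClosure F
  have : CharP L p := charP_of_injective_algebraMap (algebraMap F L).injective p
  have hsepX : (X ^ r - C (1 : F)).Separable := separable_X_pow_sub_C _ (fun h => hrp (((Nat.prime_dvd_prime_iff_eq
    Fact.out hrP).mp ((CharP.cast_eq_zero_iff F p r).mp h)).symm)) one_ne_zero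
  have hPX : P ∣ X ^ r - C 1 := minpoly.dvd F M (by rw [map_sub, map_pow, aeval_X, aeval_C, map_one, hpow, sub_self])
  have hcard : Fintype.card (P.rootSet L) = P.natDegree :=
    card_rootSet_eq_natDegree (hsepX.of_dvd hPX) (IsAlgClosed.splits _)
  have hdeg2 : 2 ≤ P.natDegree := by
    by_contra hlt
    have h1 : P.natDegree = 1 := by have : 0 < P.natDegree := minpoly.natDegree_pos hMint; omega
    have h2 := (minpoly.monic hMint).eq_X_add_C h1
    have h3 := minpoly.aeval F M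
    rw [h2, map_add, aeval_X, aeval_C, Algebra.algebraMap_eq_smul_one, add_eq_zero_iff_eq_neg, ← neg_smul] at h3
    exact hx2 _ h3
  have hPne : P ≠ 0 := minpoly.ne_zero hMint
  obtain ⟨ω, hω, hω1⟩ : ∃ ω : L, aeval ω P = 0 ∧ ω ≠ 1 := by
    by_contra hc'
    push Not at hc'
    have : Fintype.card (P.rootSet L) ≤ 1 := Fintype.card_le_one_iff.mpr fun a b => Subtype.ext
      ((hc' _ (mem_rootSet.mp a.2).2).trans (hc' _ (mem_rootSet.mp b.2).2).symm)
    omega
  have hωr : ω ^ r = 1 := by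
    obtain ⟨R, hR⟩ := hPX
    have := congrArg (aeval ω) hR
    rwa [map_mul, hω, zero_mul, map_sub, map_pow, aeval_X, aeval_C, map_one, sub_eq_zero] at this
  have hord : orderOf ω = r := orderOf_eq_prime hωr hω1
  have hstep : ∀ y : L, aeval y P = 0 → ∀ l : ℕ, aeval (y ^ q ^ l) P = 0 := fun y hy l => by
    induction l with
    | zero => rwa [pow_zero, pow_one]
    | succ l ih =>
      rw [pow_succ, pow_mul, ← expand_aeval, FiniteField.expand_card, map_pow, ih, zero_pow Fintype.card_ne_zero]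
  obtain ⟨k₀, hk₀⟩ : ∃ k₀, q₀ = p ^ k₀ := by
    obtain ⟨d, hp, hd⟩ := FiniteField.card F p
    obtain ⟨k₀, -, hk⟩ := (Nat.dvd_prime_pow hp).mp (show q₀ ∣ p ^ (d : ℕ) from ⟨q₀, by rw [← hd, ← hq, hF, sq]⟩)
    exact ⟨k₀, hk⟩
  have hqr : (q₀ : ZMod r) ≠ 0 := fun h => by
    rw [h, neg_zero] at hk
    rcases Nat.eq_zero_or_pos k with h0 | h0
    · rw [h0, pow_zero, eq_neg_iff_add_eq_zero, one_add_one_eq_two] at hk
      have h2 := (ZMod.natCast_eq_zero_iff 2 r).mp (by exact_mod_cast hk)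
      exact hr2 ((Nat.prime_dvd_prime_iff_eq hrP Nat.prime_two).mp h2)
    · rw [zero_pow h0.ne'] at hk
      exact one_ne_zero (neg_eq_zero.mp hk.symm)
  have hqcast : (q : ZMod r) = (q₀ : ZMod r) ^ 2 := by rw [hF, Nat.cast_pow]
  set a := (-(q₀ : ZMod r)⁻¹).val with ha
  have hacast : (a : ZMod r) = -(q₀ : ZMod r)⁻¹ := ZMod.natCast_rightInverse _
  have hpeq : ∀ b c : ℕ, ω ^ b = ω ^ c ↔ (b : ZMod r) = (c : ZMod r) := fun b c => by
    rw [ZMod.natCast_eq_natCast_iff', pow_eq_pow_mod b hωr, pow_eq_pow_mod c hωr]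
    exact ⟨fun h => (hord ▸ IsPrimitiveRoot.orderOf ω).pow_inj (Nat.mod_lt _ hrP.pos) (Nat.mod_lt _ hrP.pos) h,
      fun h => by rw [h]⟩
  have hy : aeval (ω ^ a) P = 0 := by
    refine eq_zero_of_pow_eq_zero (n := q₀) ?_
    obtain ⟨R, hR⟩ := hdvd
    have h1 := congrArg (aeval ω) hR
    rw [map_mul, hω, zero_mul, aeval_comp, map_pow, aeval_X] at h1
    rw [← (hpeq (a * q₀) (r - 1)).mpr ?_, pow_mul] at h1
    · refine Eq.trans ?_ h1
      have h2 := Polynomial.hom_eval₂ P (algebraMap F L) (iterateFrobenius L p k₀) (ω ^ a)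
      rw [iterateFrobenius_def, iterateFrobenius_def, ← hk₀] at h2
      rw [aeval_def, aeval_def, eval₂_map]
      refine h2.trans ?_
      congr 1
      refine RingHom.ext fun c => ?_
      show iterateFrobenius L p k₀ (algebraMap F L c) = algebraMap F L (σ c)
      rw [iterateFrobenius_def, ← hk₀, hσ, map_pow]
    · rw [Nat.cast_mul, hacast, neg_mul, inv_mul_cancel₀ hqr, Nat.cast_sub hrP.one_le, ZMod.natCast_self, zero_sub,
        Nat.cast_one]
  have hinjq : ∀ l m : Fin i, (q : ZMod r) ^ (l : ℕ) = (q : ZMod r) ^ (m : ℕ) → l = m := fun l m h =>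
    Fin.ext (pow_injOn_Iio_orderOf (Set.mem_Iio.mpr l.2) (Set.mem_Iio.mpr m.2) h)
  have hout : ∀ l m : ℕ, (-(q₀ : ZMod r)⁻¹) * (q : ZMod r) ^ l ≠ (q : ZMod r) ^ m := fun l m h => by
    have hq0 : (q : ZMod r) ≠ 0 := by rw [hqcast]; exact pow_ne_zero _ hqr
    have hh : (q : ZMod r) ^ l = -(q₀ : ZMod r) * (q : ZMod r) ^ m := by
      rw [← h, ← mul_assoc, neg_mul_neg, mul_inv_cancel₀ hqr, one_mul]
    rw [hqcast, ← pow_mul, ← pow_mul, ← (even_two_mul l).neg_pow (q₀ : ZMod r), ← (even_two_mul m).neg_pow (q₀ : ZMod r)] at hh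
    have h2 := congrArg (· ^ k) hh
    simp only [mul_pow, ← pow_mul] at h2
    rw [mul_comm _ k, pow_mul, hk, (even_two_mul l).neg_one_pow, mul_comm _ k, pow_mul, hk,
      (even_two_mul m).neg_one_pow, mul_one] at h2
    rw [eq_neg_iff_add_eq_zero, one_add_one_eq_two] at h2
    exact hr2 ((Nat.prime_dvd_prime_iff_eq hrP Nat.prime_two).mp ((ZMod.natCast_eq_zero_iff 2 r).mp (by exact_mod_cast h2)))
  let Φ : Fin i ⊕ Fin i → P.rootSet L := Sum.elim
    (fun l => ⟨ω ^ q ^ (l : ℕ), mem_rootSet.mpr ⟨hPne, hstep ω hω l⟩⟩)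
    (fun l => ⟨(ω ^ a) ^ q ^ (l : ℕ), mem_rootSet.mpr ⟨hPne, hstep _ hy l⟩⟩)
  have hΦ : Function.Injective Φ := by
    rintro (l | l) (m | m) h <;> have h' := congrArg Subtype.val h <;>
      simp only [Φ, Sum.elim_inl, Sum.elim_inr, ← pow_mul, hpeq, Nat.cast_mul, Nat.cast_pow, hacast] at h'
    · exact congrArg Sum.inl (hinjq l m h')
    · exact absurd h'.symm (hout _ _)
    · exact absurd h' (hout _ _)
    · exact congrArg Sum.inr (hinjq l m (mul_left_cancel₀ (neg_ne_zero.mpr (inv_ne_zero hqr)) h'))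
  have h1 := Fintype.card_le_of_injective Φ hΦ
  rw [Fintype.card_sum, Fintype.card_fin, hcard] at h1
  have h2 := natDegree_le_of_dvd (minpoly.dvd F M hann') hP0
  have h3 : P.natDegree ≤ P0.natDegree := h2
  have h4 : P0.natDegree ≤ i + 1 := hdeg
  omega

/-- Squares equal to a nonsquare scalar. -/
theorem bad_two {q₀ : ℕ} (hF : Fintype.card F = q₀ ^ 2) {σ : F →+* F} (hσ : ∀ a, σ a = a ^ q₀)
    (hσσ : ∀ a, σ (σ a) = a) {f : (Fin n → F) → (Fin n → F) → F} {H : Mn}
    (hH : st σ H = H) (hH0 : H.det ≠ 0) (hf : ∀ u v, f u v = (σ ∘ v) ⬝ᵥ (H *ᵥ u)) (hn : 0 < n) (hodd : Odd q₀)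
    (hv : padicValNat 2 (Fintype.card F - 1) < padicValNat 2 n) : SLBad f 2 := by
  classical
  have hq0 : 1 < q₀ := (CfsgLib.UnitaryBasic.frob_exists hF).1
  have hq1 : Fintype.card F - 1 ≠ 0 := by have := Fintype.one_lt_card (α := F); omega
  set v := padicValNat 2 (Fintype.card F - 1) with hvdef
  obtain ⟨w, hw⟩ := CfsgLib.OrthSLElusive.exists_unit_order (F := F) (pow_padicValNat_dvd (p := 2) (n := Fintype.card F - 1))
  rw [← hvdef] at hw
  obtain ⟨b, hb⟩ : 2 ^ (v + 1) ∣ n := (padicValNat_dvd_iff_le hn.ne').mpr (by omega)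
  have hwns : ¬ IsSquare (w : F) := by
    rintro ⟨s, hs⟩
    have hs0 : s ≠ 0 := fun h => w.ne_zero (by rw [hs, h, mul_zero])
    set su : Fˣ := Units.mk0 s hs0
    have hws : w = su ^ 2 := Units.ext (by rw [hs, Units.val_pow_eq_pow_val, pow_two]; rfl)
    have h1 : orderOf su ∣ Fintype.card F - 1 := by
      rw [← Nat.card_eq_fintype_card (α := F), ← Nat.card_units]; exact orderOf_dvd_natCard su
    have hsu0 : orderOf su ≠ 0 := (orderOf_pos su).ne'
    rcases Nat.eq_zero_or_pos v with h0 | h0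
    · obtain ⟨m, hm⟩ := hodd
      have h2 : 2 ∣ Fintype.card F - 1 := ⟨2 * m * m + 2 * m, by rw [hF, hm]; ring_nf; omega⟩
      have := one_le_padicValNat_of_dvd hq1 h2
      omega
    · have h2 : orderOf su ∣ 2 ^ (v + 1) := orderOf_dvd_of_pow_eq_one (by
        rw [pow_succ', pow_mul, ← hws, ← hw, pow_orderOf_eq_one])
      have h3 : ¬ orderOf su ∣ 2 ^ v := fun h => by
        have h4 : w ^ 2 ^ (v - 1) = 1 := by
          rw [hws, ← pow_mul, ← pow_succ', show v - 1 + 1 = v by omega]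
          exact orderOf_dvd_iff_pow_eq_one.mp h
        have h5 := Nat.le_of_dvd (by positivity) (hw ▸ orderOf_dvd_of_pow_eq_one h4)
        have := Nat.pow_lt_pow_right one_lt_two (show v - 1 < v by omega)
        omega
      obtain ⟨j, hj, hje⟩ := (Nat.dvd_prime_pow Nat.prime_two).mp h2
      have hjv : j = v + 1 := by
        by_contra hne
        exact h3 (hje ▸ pow_dvd_pow 2 (by omega))
      rw [hje, hjv, padicValNat_dvd_iff_le hq1] at h1
      omega
  have hm1 : IsSquare (-1 : F) := FiniteField.isSquare_neg_one_iff.mpr (by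
    obtain ⟨m, hm⟩ := hodd
    rw [hF, hm, show (2 * m + 1) ^ 2 = 1 + (m * m + m) * 4 by ring, Nat.add_mul_mod_self_right]
    norm_num)
  set z := -(w : F) with hz
  have hzns : ¬ IsSquare z := fun h => hwns (by simpa [hz] using hm1.mul h)
  let e : Fin 2 × Fin (2 ^ v * b) ≃ Fin n := Fintype.equivFinOfCardEq (by
    rw [Fintype.card_prod, Fintype.card_fin, Fintype.card_fin, hb, pow_succ]; ring)
  set M : Mn := Matrix.reindex e e (Matrix.blockDiagonal fun _ => !![0, z; 1, 0]) with hM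
  have hdet : M.det = 1 := by
    rw [hM, det_reindex_self, det_blockDiagonal, Finset.prod_const, Finset.card_univ, Fintype.card_fin, det_fin_two]
    simp [hz]
    rw [pow_mul, ← hw, ← Units.val_pow_eq_pow_val, pow_orderOf_eq_one, Units.val_one, one_pow]
  have hM2 : M ^ 2 = z • 1 := by
    rw [hM, pow_two, Matrix.reindex_apply, Matrix.submatrix_mul_equiv, ← Matrix.blockDiagonal_mul]
    have h1 : (!![0, z; 1, 0] * !![0, z; 1, 0] : Matrix (Fin 2) (Fin 2) F) = z • 1 := by
      ext i j; fin_cases i <;> fin_cases j <;> simp [Matrix.mul_apply, Fin.sum_univ_two]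
    rw [h1, show (fun _ : Fin (2 ^ v * b) => z • (1 : Matrix (Fin 2) (Fin 2) F)) = z • 1 from rfl,
      Matrix.blockDiagonal_smul, Matrix.blockDiagonal_one]
    show z • (1 : Matrix (Fin 2 × Fin (2 ^ v * b)) (Fin 2 × Fin (2 ^ v * b)) F).submatrix e.symm e.symm = _
    rw [Matrix.submatrix_one_equiv]
  refine bad_of hσσ hH hH0 hf M hdet hM2 fun G hG hG0 => ?_
  rintro ⟨c, hc⟩
  have hcσ : σ c = c := by
    have h1 := congrArg (st σ) hc
    rw [st_mul, st_mul, st_smul, st_st hσσ, hG, ← Matrix.mul_assoc, hc] at h1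
    exact (smul_left_injective F (fun h0 => hG0 (by
      have : Nonempty (Fin n) := ⟨⟨0, hn⟩⟩
      rw [h0, det_zero])) h1).symm
  have h2 := sim_pow hc 2
  rw [hM2, st_smul, st_one, Matrix.smul_mul, one_mul, Matrix.smul_mul, Matrix.mul_smul, mul_one, smul_smul] at h2
  have hc2 : σ z * z = c ^ 2 := smul_left_injective F (fun h0 => hG0 (by
    have : Nonempty (Fin n) := ⟨⟨0, hn⟩⟩
    rw [h0, det_zero])) h2
  have hz0 : z ≠ 0 := neg_ne_zero.mpr w.ne_zero
  have hc0 : c ≠ 0 := fun h => by rw [h, zero_pow two_ne_zero] at hc2; exact mul_ne_zero ((map_ne_zero σ).mpr hz0) hz0 hc2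
  have hcq : c ^ (q₀ - 1) = 1 := by
    refine mul_right_cancel₀ hc0 ?_
    rw [one_mul, ← pow_succ, Nat.sub_add_cancel (by omega), ← hσ, hcσ]
  have hzsq : z ^ ((Fintype.card F - 1) / 2) = 1 := by
    obtain ⟨m, hm⟩ := hodd
    rw [show (Fintype.card F - 1) / 2 = (q₀ + 1) * m by
      rw [hF, hm, show (2 * m + 1) ^ 2 - 1 = (2 * m + 1 + 1) * m * 2 by ring_nf; omega,
        Nat.mul_div_cancel _ two_pos],
      pow_mul, pow_succ, ← hσ, hc2, ← pow_mul, show 2 * m = q₀ - 1 by omega, hcq]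
  exact hzns ((FiniteField.isSquare_iff (fun hc => CfsgLib.FiniteForms.two_ne_zero_of_odd rfl (hF ▸ hodd.pow) (by
    exact_mod_cast (hc ▸ ringChar.Nat.cast_ringChar : ((2 : ℕ) : F) = 0))) hz0).mpr (by
    rwa [show Fintype.card F / 2 = (Fintype.card F - 1) / 2 by
      obtain ⟨m, hm⟩ := hodd
      rw [hF, hm, show (2 * m + 1) ^ 2 = 2 * (2 * m * m + 2 * m) + 1 by ring]
      omega]))

end CfsgLib.UnitSLElusive
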