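/-
Conjugating elements into the similarities of a unitary form.
-/
import Cfsg.Agent.Lib.UnitSLElusive.Negative
import Cfsg.Agent.Lib.OrthSLElusive.Positive
import Cfsg.Agent.Lib.MaxSub.InvolutionBlocks

set_option autoImplicit false
set_option linter.unusedSectionVars false

namespace CfsgLib.UnitSLElusive

open Polynomial Matrix Module

universe u

variable {F : Type u} [Field F] [Fintype F] {n : ℕ} {p : ℕ} [Fact p.Prime] [CharP F p]

local notation "Mn" => Matrix (Fin n) (Fin n) F

/-- The square is a square when the `2`-part of the degree is small. -/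
theorem isSquare_of_small {q₀ : ℕ} (hF : Fintype.card F = q₀ ^ 2) (hodd : Odd q₀) (hn : 0 < n)
    (hv : padicValNat 2 n ≤ padicValNat 2 (Fintype.card F - 1)) (x : GL (Fin n) F) (hxdet : (x : Mn).det = 1) {z : F}
    (hx : (x : Mn) ^ 2 = z • 1) : IsSquare z := by
  classical
  by_contra hz
  obtain ⟨N, e, gR, hN, hgR, hxR⟩ := CfsgLib.OrthSLElusive.exists_pairs (x : Mn) hz hx
  have h1 := congrArg Matrix.det hxR
  rw [det_mul, det_mul, hxdet, one_mul, det_reindex_self, det_blockDiagonal, Finset.prod_const, Finset.card_univ,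
    Fintype.card_fin, det_fin_two] at h1
  simp only [Matrix.of_apply, Matrix.cons_val', Matrix.cons_val_zero, Matrix.cons_val_one, Matrix.empty_val',
    Matrix.cons_val_fin_one, zero_mul, mul_one, zero_sub] at h1
  have hw : (-z) ^ N = 1 := mul_left_cancel₀ hgR (h1.symm.trans (mul_one _).symm)
  have hq : Fintype.card F % 4 = 1 := by
    obtain ⟨m, hm⟩ := hodd
    rw [hF, hm, show (2 * m + 1) ^ 2 = 1 + (m * m + m) * 4 by ring, Nat.add_mul_mod_self_right]
  have hwns : ¬ IsSquare (-z) := fun h => hz (by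
    simpa using (FiniteField.isSquare_neg_one_iff.mpr (by omega) : IsSquare (-1 : F)).mul h)
  have hN0 : N ≠ 0 := by omega
  have hz0 : -z ≠ 0 := fun h => hwns (h ▸ IsSquare.zero)
  have hq1 : Fintype.card F - 1 ≠ 0 := by have := Fintype.one_lt_card (α := F); omega
  set v := padicValNat 2 (Fintype.card F - 1) with hvdef
  have h2v : 2 ^ v ∣ orderOf (-z) := by
    by_contra hndvd
    refine hwns ((FiniteField.isSquare_iff (fun hc => CfsgLib.FiniteForms.two_ne_zero_of_odd rfl (hF ▸ hodd.pow) (by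
      exact_mod_cast (hc ▸ ringChar.Nat.cast_ringChar : ((2 : ℕ) : F) = 0))) hz0).mpr ?_)
    obtain ⟨c, hc⟩ := orderOf_dvd_of_pow_eq_one (FiniteField.pow_card_sub_one_eq_one _ hz0)
    have h2c : 2 ∣ c := by
      by_contra h2c
      refine hndvd (((Nat.prime_two.coprime_iff_not_dvd.mpr h2c).pow_left v).dvd_of_dvd_mul_right ?_)
      rw [← hc]
      exact pow_padicValNat_dvd
    obtain ⟨c', rfl⟩ := h2c
    rw [show Fintype.card F / 2 = orderOf (-z) * c' by
      have h3 : Fintype.card F - 1 = 2 * (orderOf (-z) * c') := by rw [hc]; ring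
      omega, pow_mul, pow_orderOf_eq_one, one_pow]
  have h2 : 2 ^ v ∣ N := h2v.trans (orderOf_dvd_of_pow_eq_one hw)
  rw [padicValNat_dvd_iff_le hN0] at h2
  have h3 : padicValNat 2 n = padicValNat 2 N + 1 := by
    rw [← hN, padicValNat.mul two_ne_zero hN0, padicValNat_self, add_comm]
  omega

/-- In characteristic two a map squaring to the identity permutes a basis. -/
theorem exists_perm_basis [CharP F 2] (M : Mn) (hM : M ^ 2 = 1) :
    ∃ (g : Mn) (π : Fin n → Fin n), g.det ≠ 0 ∧ Function.Involutive π ∧ M * g = g * (1 : Mn).submatrix id π := by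
  classical
  set f := Matrix.toLinAlgEquiv' M with hf
  have hff : ∀ v, f (f v) = ((1 : F) * 1) • v := fun v => by
    rw [← Module.End.mul_apply, hf, ← map_mul, ← pow_two, hM, map_one, Module.End.one_apply, one_mul, one_smul]
  obtain ⟨k, l, u, w, hkl, huu, hww, hspan⟩ := CfsgLib.MaxSub.hasPairBasis_char_two f 1 hff
  rw [Module.finrank_fin_fun] at hkl
  let v : (Fin k ⊕ Fin k) ⊕ Fin l → (Fin n → F) := Sum.elim (Sum.elim u fun i => f (u i)) w
  have hle : ⊤ ≤ Submodule.span F (Set.range v) := by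
    refine hspan.trans (le_of_eq ?_)
    rw [Set.Sum.elim_range, Set.Sum.elim_range]
  let b := basisOfTopLeSpanOfCardEqFinrank v hle (by simp; omega)
  let e : (Fin k ⊕ Fin k) ⊕ Fin l ≃ Fin n := Fintype.equivFinOfCardEq (by simp; omega)
  let π₀ : (Fin k ⊕ Fin k) ⊕ Fin l → (Fin k ⊕ Fin k) ⊕ Fin l := Sum.map Sum.swap id
  have hπ₀ : ∀ a, f (v a) = v (π₀ a) := by
    rintro ((i | i) | i)
    · rfl
    · show f (f (u i)) = u i
      rw [hff, one_mul, one_smul]
    · show f (w i) = w i
      obtain ⟨c, hc⟩ := Submodule.mem_span_singleton.mp (hww i)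
      have h1 := hff (w i)
      rw [← hc, map_smul, ← hc, smul_smul, one_mul, one_smul] at h1
      by_cases hw : w i = 0
      · rw [hw, map_zero]
      have h2 : (c * c - 1) • w i = 0 := by rw [sub_smul, one_smul, h1, sub_self]
      have h3 : c = 1 := by
        have h4 := (smul_eq_zero.mp h2).resolve_right hw
        have h5 : (c - 1) * (c - 1) = 0 := by linear_combination h4 + (1 - c) * (CharTwo.two_eq_zero (R := F))
        exact sub_eq_zero.mp (mul_self_eq_zero.mp h5)
      rw [← hc, h3, one_smul]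
  refine ⟨Matrix.of fun a i => (b.reindex e) i a, fun i => e (π₀ (e.symm i)), CfsgLib.OrthSLElusive.det_basis_ne_zero _,
    fun i => ?_, ?_⟩
  · simp [π₀]
  · ext a i
    have h1 : (M * Matrix.of fun a i => (b.reindex e) i a) a i = f (b.reindex e i) a := rfl
    have hb : (b : (Fin k ⊕ Fin k) ⊕ Fin l → Fin n → F) = v := coe_basisOfTopLeSpanOfCardEqFinrank _ _ _
    rw [h1, Basis.reindex_apply, hb, hπ₀]
    simp [Matrix.mul_apply, Matrix.one_apply, hb]

include p in
/-- Every element whose square is a scalar square. -/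
theorem pos_two {σ : F →+* F} (hσσ : ∀ a, σ (σ a) = a) (hne : ∃ a, σ a ≠ a) {f : (Fin n → F) → (Fin n → F) → F} {H : Mn}
    (hH : st σ H = H) (hH0 : H.det ≠ 0) (hf : ∀ u v, f u v = (σ ∘ v) ⬝ᵥ (H *ᵥ u)) (hn : 0 < n)
    (x : GL (Fin n) F) {s : F} (hs : s ≠ 0) (hx : (x : Mn) ^ 2 = (s * s) • 1) :
    ∃ P ∈ Cfsg.Geo.specialLinear (Fin n) F, P⁻¹ * x * P ∈ Cfsg.Geo.similarityGroup f := by
  classical
  have hx1 : (s⁻¹ • (x : Mn)) ^ 2 = 1 := by
    rw [_root_.smul_pow, hx, smul_smul, show s⁻¹ ^ 2 * (s * s) = 1 by field_simp, one_smul]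
  have hμ : σ s * s ≠ 0 := mul_ne_zero ((map_ne_zero σ).mpr hs) hs
  by_cases hp : p = 2
  · subst hp
    obtain ⟨g, π, hg, hπ, hgπ⟩ := exists_perm_basis (s⁻¹ • (x : Mn)) hx1
    set J : Mn := (1 : Mn).submatrix id π
    have hJ : st σ J * J = 1 := by
      ext a b
      simp [J, st, Matrix.mul_apply, Matrix.one_apply, apply_ite σ, hπ.injective.eq_iff]
      exact if_congr eq_comm rfl rfl
    refine conj_into hσσ hne hH hH0 hf (Y := s • J) (G' := 1) (μ := σ s * s) hg ?_ hμ (st_one σ)
      (by rw [det_one]; exact one_ne_zero) ?_ fun t ht => ?_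
    · rw [Matrix.mul_smul, ← hgπ, Matrix.smul_mul, smul_smul, mul_inv_cancel₀ hs, one_smul]
    · rw [st_smul, mul_one, Matrix.smul_mul, Matrix.mul_smul, smul_smul, hJ]
    · set i₀ : Fin n := ⟨0, hn⟩
      obtain ⟨d, hd, hdπ⟩ : ∃ d : Fin n → F, ∏ i, d i = t ∧ ∀ i, d (π i) = d i := by
        by_cases hfix : π i₀ = i₀
        · refine ⟨Function.update (1 : Fin n → F) i₀ t, ?_, fun i => ?_⟩
          · rw [Finset.prod_update_of_mem (Finset.mem_univ _)]; simp
          · by_cases hi : i = i₀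
            · rw [hi, hfix]
            · rw [Function.update_of_ne hi, Function.update_of_ne (fun h => hi (by rw [← hπ i, h, hfix]))]
              rfl
        · obtain ⟨α, hα⟩ : IsSquare t := FiniteField.isSquare_of_char_two (ringChar.eq F 2) t
          refine ⟨fun i => if i = i₀ ∨ i = π i₀ then α else 1, ?_, fun i => ?_⟩
          · rw [Finset.prod_ite, Finset.prod_const_one, mul_one, Finset.prod_const,
              show (Finset.univ.filter fun i => i = i₀ ∨ i = π i₀) = {i₀, π i₀} by ext; simp,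
              Finset.card_pair (Ne.symm hfix), pow_two, hα]
          · refine if_congr ?_ rfl rfl
            rw [hπ.eq_iff, hπ.injective.eq_iff, or_comm]
      refine ⟨Matrix.diagonal d, by rw [det_diagonal, hd], ?_⟩
      rw [Matrix.mul_smul, Matrix.smul_mul]
      congr 1
      ext a b
      simp [J, Matrix.mul_diagonal, Matrix.diagonal_mul, Matrix.one_apply]
      split_ifs with h
      · rw [h, hdπ]
      · rfl
  · have h2 : (2 : F) ≠ 0 := fun h => hp (by
      have := (CharP.cast_eq_zero_iff F p 2).mp (by exact_mod_cast h)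
      exact (Nat.prime_dvd_prime_iff_eq Fact.out Nat.prime_two).mp this)
    obtain ⟨g, k, hg, -, hgk⟩ := CfsgLib.OrthSLElusive.exists_eigen two_pos (by exact_mod_cast h2)
      (IsPrimitiveRoot.neg_one p hp) (s⁻¹ • (x : Mn)) hx1
    set d : Fin n → F := fun i => (-1) ^ k i
    refine conj_into hσσ hne hH hH0 hf (Y := s • Matrix.diagonal d) (G' := 1) (μ := σ s * s) hg ?_ hμ (st_one σ)
      (by rw [det_one]; exact one_ne_zero) ?_ fun t ht => ⟨Matrix.diagonal (Function.update (1 : Fin n → F) ⟨0, hn⟩ t), ?_, ?_⟩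
    · rw [Matrix.mul_smul, ← hgk, Matrix.smul_mul, smul_smul, mul_inv_cancel₀ hs, one_smul]
    · rw [st_smul, mul_one, Matrix.smul_mul, Matrix.mul_smul, smul_smul,
        show st σ (Matrix.diagonal d) = Matrix.diagonal d by
          rw [st, Matrix.diagonal_map (map_zero σ), diagonal_transpose]
          congr 1
          funext i
          simp [d],
        Matrix.diagonal_mul_diagonal, ← Matrix.diagonal_one]
      congr 2
      funext i
      show (-1 : F) ^ k i * (-1) ^ k i = 1
      rw [← mul_pow, neg_one_mul, neg_neg, one_pow]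
    · rw [det_diagonal, Finset.prod_update_of_mem (Finset.mem_univ _)]
      simp
    · rw [Matrix.mul_smul, Matrix.smul_mul, Matrix.diagonal_mul_diagonal, Matrix.diagonal_mul_diagonal]
      simp only [mul_comm]

/-- The exceptional odd dimensions. -/
theorem pos_small {q₀ : ℕ} (hF : Fintype.card F = q₀ ^ 2) {σ : F →+* F} (hσ : ∀ a, σ a = a ^ q₀) (hσσ : ∀ a, σ (σ a) = a)
    {f : (Fin n → F) → (Fin n → F) → F} {H : Mn} (hH : st σ H = H) (hH0 : H.det ≠ 0)
    (hf : ∀ u v, f u v = (σ ∘ v) ⬝ᵥ (H *ᵥ u)) {r : ℕ} [Fact r.Prime] (hr : r = 3 ∨ r = 5) (hnr : n = r)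
    (hrq : r ∣ q₀ - 1) (hr2 : ¬ r ^ 2 ∣ Fintype.card F - 1)
    (x : GL (Fin n) F) (hxdet : (x : Mn).det = 1) {z : F} (hx : (x : Mn) ^ r = z • 1) :
    ∃ P ∈ Cfsg.Geo.specialLinear (Fin n) F, P⁻¹ * x * P ∈ Cfsg.Geo.similarityGroup f := by
  classical
  subst hnr
  have hnP : n.Prime := Fact.out
  have : NeZero n := ⟨hnP.ne_zero⟩
  have hodd : Odd n := hnP.odd_of_ne_two (by omega)
  have hq : n ∣ Fintype.card F - 1 := hrq.trans ⟨q₀ + 1, by rw [hF, mul_comm, ← Nat.sq_sub_sq, one_pow]⟩
  obtain ⟨ζu, g, k, hζu, hg, hgk, hsum⟩ := CfsgLib.OrthSLElusive.small_eigen hodd hq hr2 x hxdet hx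
  set ζ : F := (ζu : F)
  have hζ : IsPrimitiveRoot ζ n := IsPrimitiveRoot.coe_units_iff.mpr (hζu ▸ IsPrimitiveRoot.orderOf ζu)
  have hσζ : σ ζ = ζ := by
    rw [hσ]
    obtain ⟨c, hc⟩ := hrq
    have hq0 := (CfsgLib.UnitaryBasic.frob_exists hF).1
    rw [show q₀ = n * c + 1 by omega, pow_succ, pow_mul, hζ.pow_eq_one, one_pow, one_mul]
  obtain ⟨π, hπ, hπk⟩ := CfsgLib.OrthSLElusive.exists_pairing hr (fun i => (k i : ZMod n)) hsum
  set d : Fin n → F := fun i => ζ ^ k i
  have hμ : ∀ i, d i * d (π i) = d 0 * d (π 0) := fun i => by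
    simp only [d, ← pow_add]
    rw [pow_eq_pow_mod _ hζ.pow_eq_one, pow_eq_pow_mod (k 0 + k (π 0)) hζ.pow_eq_one]
    congr 1
    rw [← ZMod.natCast_eq_natCast_iff', Nat.cast_add, Nat.cast_add]
    exact hπk i
  have hG : st σ ((1 : Mn).submatrix id π) = (1 : Mn).submatrix id π := by
    ext a b
    simp [st, Matrix.one_apply, apply_ite σ]
    exact if_congr ⟨fun h => by rw [h, hπ], fun h => by rw [h, hπ]⟩ rfl rfl
  refine conj_into hσσ (exists_moved hF hσ) hH hH0 hf (Y := Matrix.diagonal d) (G' := (1 : Mn).submatrix id π)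
    (μ := d 0 * d (π 0)) hg hgk (mul_ne_zero (pow_ne_zero _ (hζ.ne_zero hnP.ne_zero)) (pow_ne_zero _ (hζ.ne_zero hnP.ne_zero)))
    hG ?_ ?_ fun t ht => ⟨Matrix.diagonal (Function.update (1 : Fin n → F) 0 t), ?_, ?_⟩
  · have h1 : (1 : Mn).submatrix id π * (1 : Mn).submatrix id π = 1 := by
      ext a b
      simp [Matrix.mul_apply, Matrix.one_apply, hπ b]
    intro h0
    have := congrArg Matrix.det h1
    rw [det_mul, h0, zero_mul, det_one] at this
    exact zero_ne_one this
  · rw [show st σ (Matrix.diagonal d) = Matrix.diagonal d by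
      rw [st, Matrix.diagonal_map (map_zero σ), diagonal_transpose]
      congr 1
      funext i
      simp [d, hσζ]]
    ext a b
    rw [Matrix.mul_diagonal, Matrix.diagonal_mul, Matrix.smul_apply, smul_eq_mul]
    by_cases h : a = π b
    · subst h
      rw [show ((1 : Mn).submatrix id π) (π b) b = 1 from Matrix.one_apply_eq _, mul_one, mul_one, mul_comm]
      exact hμ b
    · rw [show ((1 : Mn).submatrix id π) a b = 0 from Matrix.one_apply_ne h]; simp
  · rw [det_diagonal, Finset.prod_update_of_mem (Finset.mem_univ _)]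
    simp
  · rw [Matrix.diagonal_mul_diagonal, Matrix.diagonal_mul_diagonal]
    simp only [mul_comm]

end CfsgLib.UnitSLElusive
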